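import Cfsg.Agent.H602.B0R.Front

/-!
# The engine: rational characters fixed by all automorphisms

If `Out(G)` is a `2`-group then the engine produces a rational character which is invariant under all automorphisms.
-/

set_option autoImplicit false

open Subgroup
open scoped ComplexConjugate

namespace Cfsg.Agent.H602.B0R

open Cfsg Cfsg.Agent.Characters.Core Cfsg.Agent.Blocks Cfsg.Agent.SmallSimple Cfsg.Agent.Characters

universe u

variable {G : Type u} [Group G] [Finite G]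

/-- the number of fixed points of the Galois group is odd -/
theorem core_odd (Y : Set (IrrCharacter G)) (hY : Odd (Nat.card Y))
    (hst : ∀ χ ∈ Y, ∀ (k : ℕ) (hk : k.Coprime (Nat.card G)), tw k hk χ ∈ Y)
    (hfix : ∀ χ ∈ Y, ∀ k : ℕ, k.Coprime (Nat.card G) →
      ∃ c : ℕ, ∀ g : G, (χ : G → ℂ) (g ^ (k ^ (2 ^ c))) = (χ : G → ℂ) g) :
    Odd (Nat.card {χ : IrrCharacter G // χ ∈ Y ∧
      ∀ k : ℕ, k.Coprime (Nat.card G) → ∀ g : G, (χ : G → ℂ) (g ^ k) = (χ : G → ℂ) g}) := by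
  classical
  have := finite_irr (G := G)
  set n := Nat.card G with hn
  have hn0 : NeZero n := ⟨Nat.card_pos.ne'⟩
  let act : MulAction (ZMod n)ˣ Y :=
    { smul := fun u χ => ⟨tw _ (val_coprime u) χ, hst χ χ.2 _ _⟩
      one_smul := fun χ => by
        apply Subtype.ext
        apply Subtype.ext
        funext g
        show (χ : G → ℂ) (g ^ ((1 : (ZMod n)ˣ) : ZMod n).val) = (χ : G → ℂ) g
        rw [pow_eq_of_modEq (orderOf_dvd_natCard g) val_one_modEq, pow_one]
      mul_smul := fun u v χ => by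
        apply Subtype.ext
        apply Subtype.ext
        funext g
        show (χ : G → ℂ) (g ^ ((u * v : (ZMod n)ˣ) : ZMod n).val) =
          (χ : G → ℂ) ((g ^ (u : ZMod n).val) ^ (v : ZMod n).val)
        rw [pow_eq_of_modEq (orderOf_dvd_natCard g) (val_mul_modEq u v), pow_mul] }
  have hsmul : ∀ (u : (ZMod n)ˣ) (χ : Y) (g : G),
      ((u • χ : Y) : G → ℂ) g = (χ : G → ℂ) (g ^ (u : ZMod n).val) := fun _ _ _ => rfl
  obtain ⟨T⟩ : Nonempty (Sylow 2 (ZMod n)ˣ) := inferInstance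
  have hT := T.isPGroup'.card_modEq_card_fixedPoints (p := 2) Y
  have hodd : Odd (T : Subgroup (ZMod n)ˣ).index := by
    rw [← Nat.not_even_iff_odd, even_iff_two_dvd]
    exact T.not_dvd_index
  have hiff : ∀ χ : Y, χ ∈ MulAction.fixedPoints T Y ↔
      ∀ k : ℕ, k.Coprime n → ∀ g : G, (χ : G → ℂ) (g ^ k) = (χ : G → ℂ) g := by
    intro χ
    constructor
    · intro hχ k hk g
      let S : Subgroup (ZMod n)ˣ := MulAction.stabilizer (ZMod n)ˣ χ
      have hTS : (T : Subgroup (ZMod n)ˣ) ≤ S := by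
        intro u hu
        rw [MulAction.mem_stabilizer_iff]
        exact hχ ⟨u, hu⟩
      let u : (ZMod n)ˣ := ZMod.unitOfCoprime k hk
      have hu : (u : ZMod n).val ≡ k [MOD n] := val_unitOfCoprime hk
      have h1 : u ^ (T : Subgroup (ZMod n)ˣ).index ∈ S := hTS (Subgroup.pow_index_mem _ _)
      obtain ⟨c, hc⟩ := hfix χ χ.2 k hk
      have h2 : u ^ (2 ^ c) ∈ S := by
        rw [MulAction.mem_stabilizer_iff]
        apply Subtype.ext
        apply Subtype.ext
        funext g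
        rw [hsmul, ← hc g]
        rw [pow_eq_of_modEq (orderOf_dvd_natCard g) ((val_pow_modEq u (2 ^ c)).trans (hu.pow _))]
      have h3 : u ∈ S := by
        refine mem_of_pow_mem S (m := 2 ^ c) ?_ h2 h1
        exact Nat.Coprime.pow_left _ (Nat.coprime_two_left.2 hodd)
      have h4 := congrArg (fun χ : Y => (χ : G → ℂ) g) (MulAction.mem_stabilizer_iff.1 h3)
      simp only [hsmul] at h4
      rw [← h4]
      exact congrArg _ (pow_eq_of_modEq (orderOf_dvd_natCard g) hu.symm)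
    · intro h u
      apply Subtype.ext
      apply Subtype.ext
      funext g
      exact h _ (val_coprime (u : (ZMod n)ˣ)) g
  have hcard : Nat.card (MulAction.fixedPoints T Y) = Nat.card {χ : IrrCharacter G // χ ∈ Y ∧
      ∀ k : ℕ, k.Coprime n → ∀ g : G, (χ : G → ℂ) (g ^ k) = (χ : G → ℂ) g} := by
    refine Nat.card_congr
      { toFun := fun χ => ⟨χ.1.1, χ.1.2, (hiff χ.1).1 χ.2⟩
        invFun := fun χ => ⟨⟨χ.1, χ.2.1⟩, (hiff ⟨χ.1, χ.2.1⟩).2 χ.2.2⟩
        left_inv := fun _ => rfl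
        right_inv := fun _ => rfl }
  rw [← hcard]
  rw [Nat.odd_iff] at hY ⊢
  have h1 : Nat.card Y % 2 = Nat.card (MulAction.fixedPoints T Y) % 2 := hT
  omega

/-- composition with an automorphism -/
noncomputable def au (a : MulAut G) (χ : IrrCharacter G) : IrrCharacter G :=
  ⟨fun g => (χ : G → ℂ) (a g), isIrr_comp a.toMonoidHom a.surjective χ.2⟩

omit [Finite G] in
theorem au_apply (a : MulAut G) (χ : IrrCharacter G) (g : G) : (au a χ : G → ℂ) g = (χ : G → ℂ) (a g) := rfl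

omit [Finite G] in
theorem index_centralizer_aut (a : MulAut G) (g : G) :
    (centralizer ({a g} : Set G)).index = (centralizer ({g} : Set G)).index := by
  have h1 : (centralizer ({g} : Set G)).map a.toMonoidHom = centralizer ({a g} : Set G) := by
    ext x
    rw [mem_map, mem_centralizer_singleton_iff]
    constructor
    · rintro ⟨y, hy, rfl⟩
      rw [mem_centralizer_singleton_iff] at hy
      change a y * a g = a g * a y
      rw [← map_mul, hy, map_mul]
    · intro hx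
      refine ⟨a.symm x, ?_, a.apply_symm_apply x⟩
      rw [mem_centralizer_singleton_iff]
      apply a.injective
      rw [map_mul, map_mul, a.apply_symm_apply, hx]
  rw [← h1]
  exact Subgroup.index_map_equiv _ a

omit [Finite G] in
theorem au_mem {M : Ideal AlgInt} (a : MulAut G) {χ : IrrCharacter G} (hχ : χ ∈ principalBlock M G) :
    au a χ ∈ principalBlock M G := by
  intro g
  have h1 := hχ (a g)
  have h2 : centralChar (fun _ : G => (1 : ℂ)) (a g) = centralChar (fun _ : G => (1 : ℂ)) g := by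
    unfold centralChar
    rw [index_centralizer_aut]
  have h3 : centralChar (χ : G → ℂ) (a g) = centralChar (au a χ : G → ℂ) g := by
    unfold centralChar
    rw [index_centralizer_aut, au_apply, au_apply, map_one]
  rw [h2, h3] at h1
  exact h1

/-- **fixed points of the automorphism group on an odd stable set of irreducible characters**, if `Out(G)` is a
`2`-group -/
theorem exists_aut_fixed (R : Set (IrrCharacter G)) (hR : Odd (Nat.card R)) (hst : ∀ χ ∈ R, ∀ a : MulAut G, au a χ ∈ R)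
    (hout : ∀ a : MulAut G, ∃ c : ℕ, a ^ (2 ^ c) ∈ (MulAut.conj (G := G)).range) :
    ∃ χ ∈ R, ∀ (a : MulAut G) (g : G), (χ : G → ℂ) (a g) = (χ : G → ℂ) g := by
  classical
  have := finite_irr (G := G)
  have : Finite (MulAut G) := inferInstance
  let act : MulAction (MulAut G) R :=
    { smul := fun a χ => ⟨au a⁻¹ χ, hst χ χ.2 _⟩
      one_smul := fun χ => by
        apply Subtype.ext
        apply Subtype.ext
        funext g
        show (χ : G → ℂ) ((1 : MulAut G)⁻¹ g) = (χ : G → ℂ) g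
        rw [inv_one]
        rfl
      mul_smul := fun a b χ => by
        apply Subtype.ext
        apply Subtype.ext
        funext g
        show (χ : G → ℂ) ((a * b)⁻¹ g) = (χ : G → ℂ) (b⁻¹ (a⁻¹ g))
        rw [mul_inv_rev]
        rfl }
  have hsmul : ∀ (a : MulAut G) (χ : R) (g : G), ((a • χ : R) : G → ℂ) g = (χ : G → ℂ) (a⁻¹ g) := fun _ _ _ => rfl
  obtain ⟨T⟩ : Nonempty (Sylow 2 (MulAut G)) := inferInstance
  have hT := T.isPGroup'.card_modEq_card_fixedPoints (p := 2) R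
  have hne : Nonempty (MulAction.fixedPoints T R) := by
    rw [← not_isEmpty_iff]
    intro h
    have h0 : Nat.card (MulAction.fixedPoints T R) = 0 := Nat.card_of_isEmpty
    rw [h0] at hT
    rw [Nat.odd_iff] at hR
    have h1 : Nat.card R % 2 = 0 % 2 := hT
    omega
  obtain ⟨⟨χ, hχ⟩⟩ := hne
  let S : Subgroup (MulAut G) := MulAction.stabilizer (MulAut G) χ
  have hTS : (T : Subgroup (MulAut G)) ≤ S := by
    intro u hu
    rw [MulAction.mem_stabilizer_iff]
    exact hχ ⟨u, hu⟩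
  have hIS : (MulAut.conj (G := G)).range ≤ S := by
    rintro _ ⟨c, rfl⟩
    rw [MulAction.mem_stabilizer_iff]
    apply Subtype.ext
    apply Subtype.ext
    funext g
    rw [hsmul, ← map_inv, MulAut.conj_apply]
    exact Basic.irr_conj χ.1.2 g c⁻¹
  have hS : S = ⊤ := by
    rw [← Subgroup.index_eq_one]
    by_contra hne
    obtain ⟨r, hr, hrd⟩ := Nat.exists_prime_and_dvd hne
    have h1 : r ∣ (T : Subgroup (MulAut G)).index := hrd.trans (index_dvd_of_le hTS)
    have h2 : r ∣ ((MulAut.conj (G := G)).range).index := hrd.trans (index_dvd_of_le hIS)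
    have hnorm : ((MulAut.conj (G := G)).range).Normal := by
      refine ⟨?_⟩
      rintro _ ⟨c, rfl⟩ f
      refine ⟨f c, ?_⟩
      ext x
      simp [MulAut.conj_apply]
    have h3 : IsPGroup 2 (MulAut G ⧸ (MulAut.conj (G := G)).range) := by
      intro q
      obtain ⟨a, rfl⟩ := QuotientGroup.mk_surjective q
      obtain ⟨c, hc⟩ := hout a
      exact ⟨c, by rw [← QuotientGroup.mk_pow]; exact (QuotientGroup.eq_one_iff _).2 hc⟩
    obtain ⟨m, hm⟩ := IsPGroup.iff_card.1 h3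
    have h4 : ((MulAut.conj (G := G)).range).index = 2 ^ m := hm
    rw [h4] at h2
    have h5 : r = 2 := (Nat.prime_dvd_prime_iff_eq hr Nat.prime_two).1 (hr.dvd_of_dvd_pow h2)
    rw [h5] at h1
    exact T.not_dvd_index h1
  refine ⟨χ, χ.2, fun a g => ?_⟩
  have h1 : a⁻¹ ∈ S := by rw [hS]; exact mem_top _
  have h2 := congrArg (fun χ : R => (χ : G → ℂ) g) (MulAction.mem_stabilizer_iff.1 h1)
  simp only [hsmul, inv_inv] at h2
  exact h2

/-- the conclusion of the engine with invariance under all automorphisms -/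
def OutA (p q : ℕ) (M M' : Ideal AlgInt) (G : Type u) [Group G] : Prop :=
  ∃ χ : IrrCharacter G, χ ∈ principalBlock M G ∧ χ ∈ principalBlock M' G ∧ (χ : G → ℂ) ≠ (fun _ => 1) ∧
    NE p (χ : G → ℂ) ∧ NE q (χ : G → ℂ) ∧ (∀ g : G, ∃ z : ℤ, (χ : G → ℂ) g = z) ∧
    ∀ (a : MulAut G) (g : G), (χ : G → ℂ) (a g) = (χ : G → ℂ) g

theorem Pair.outA_of_fix {p q : ℕ} {M M' : Ideal AlgInt} (h : Pair G p q M M')
    (hfix : ∀ χ ∈ Com M M' G, ∀ k : ℕ, k.Coprime (Nat.card G) →
      ∃ c : ℕ, ∀ g : G, (χ : G → ℂ) (g ^ (k ^ (2 ^ c))) = (χ : G → ℂ) g)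
    (hout : ∀ a : MulAut G, ∃ c : ℕ, a ^ (2 ^ c) ∈ (MulAut.conj (G := G)).range) : OutA p q M M' G := by
  have h1 := core_odd (Com M M' G) h.odd (fun χ hχ k hk =>
    ⟨tw_mem hk hχ.1, tw_mem hk hχ.2.1, fun h1 => hχ.2.2 (by
      funext g
      obtain ⟨m, hm⟩ := exists_pow_eq_self_of_coprime (x := g) (n := k)
        (hk.coprime_dvd_right (orderOf_dvd_natCard g))
      have h2 := congrFun h1 (g ^ m)
      rw [tw_apply, ← pow_mul, mul_comm, pow_mul, hm] at h2
      exact h2)⟩) hfix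
  obtain ⟨χ, ⟨⟨h2, h3, h4⟩, h5⟩, h6⟩ := exists_aut_fixed {χ : IrrCharacter G | χ ∈ Com M M' G ∧
      ∀ k : ℕ, k.Coprime (Nat.card G) → ∀ g : G, (χ : G → ℂ) (g ^ k) = (χ : G → ℂ) g} h1 (by
    rintro χ ⟨⟨h2, h3, h4⟩, h5⟩ a
    refine ⟨⟨au_mem a h2, au_mem a h3, fun h6 => h4 ?_⟩, fun k hk g => ?_⟩
    · funext g
      have h7 := congrFun h6 (a.symm g)
      rw [au_apply] at h7
      simpa using h7
    · rw [au_apply, au_apply, map_pow, h5 k hk]) hout
  obtain ⟨h7, h8⟩ := h.ne_both h2 h3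
  exact ⟨χ, h2, h3, h4, h7, h8, exists_int h5, h6⟩

theorem Pair.fix_of_gen0 {p q : ℕ} {M M' : Ideal AlgInt} (h : Pair G p q M M')
    (hg : ∀ g : G, Gen0 (orderOf g) p q) (χ : IrrCharacter G) (hχ : χ ∈ Com M M' G) (k : ℕ)
    (hk : k.Coprime (Nat.card G)) : ∃ c : ℕ, ∀ g : G, (χ : G → ℂ) (g ^ (k ^ (2 ^ c))) = (χ : G → ℂ) g := by
  have := Fact.mk h.hp
  have := Fact.mk h.hq
  obtain ⟨P⟩ : Nonempty (Sylow p G) := inferInstance
  obtain ⟨Q⟩ : Nonempty (Sylow q G) := inferInstance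
  refine fix_of_local (fun g k hk => ?_) hk
  have : NeZero (orderOf g) := ⟨(orderOf_pos g).ne'⟩
  obtain ⟨hn, hn'⟩ := h.ne_both hχ.1 hχ.2.1
  obtain ⟨h1, h2⟩ := local_cond P (h.sylp P).1 h.frobp hχ.1 hn g
  obtain ⟨h3, h4⟩ := local_cond Q (h.sylq Q).1 h.frobq hχ.2.1 hn' g
  have hk' : k.Coprime (orderOf g) := hk.coprime_dvd_right (orderOf_dvd_natCard g)
  obtain ⟨c, hc⟩ := hg g (locStab χ g) h1 h2 h3 h4 (ZMod.unitOfCoprime k hk')
  refine ⟨c, ?_⟩
  rw [mem_locStab] at hc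
  rw [← hc]
  exact congrArg _ (pow_eq_of_modEq dvd_rfl ((val_pow_modEq _ _).trans ((val_unitOfCoprime hk').pow _)).symm)

theorem Pair.fix_of_gen {p q : ℕ} {M M' : Ideal AlgInt} (h : Pair G p q M M') {L : List ℕ}
    (hL : ∀ r ∈ L, r.Prime ∧ TR G r) (hg : Gen (Nat.card G) p q L) (χ : IrrCharacter G) (hχ : χ ∈ Com M M' G) (k : ℕ)
    (hk : k.Coprime (Nat.card G)) : ∃ c : ℕ, ∀ g : G, (χ : G → ℂ) (g ^ (k ^ (2 ^ c))) = (χ : G → ℂ) g := by
  have := Fact.mk h.hp
  have := Fact.mk h.hq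
  obtain ⟨P⟩ : Nonempty (Sylow p G) := inferInstance
  obtain ⟨Q⟩ : Nonempty (Sylow q G) := inferInstance
  have : NeZero (Nat.card G) := ⟨Nat.card_pos.ne'⟩
  obtain ⟨hn, hn'⟩ := h.ne_both hχ.1 hχ.2.1
  have key : ∀ {p : ℕ} [Fact p.Prime] (P : Sylow p G) (hP : Nat.card P = p) {M : Ideal AlgInt}
      (hfrob : Frob p M G) (hχ : χ ∈ principalBlock M G) (hn : NE p (χ : G → ℂ)),
      (∀ u : (ZMod (Nat.card G))ˣ, (u : ZMod (Nat.card G)).val ≡ 1 [MOD Nat.card G / p] → u ∈ gloStab χ) ∧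
      (∀ u : (ZMod (Nat.card G))ˣ, (u : ZMod (Nat.card G)).val ≡ p [MOD Nat.card G / p] → u ∈ gloStab χ) := by
    intro p _ P hP M hfrob hχ hn
    refine ⟨fun u hu g => ?_, fun u hu g => hfrob χ hχ hn _ (val_coprime u) hu g⟩
    by_cases hg : p ∣ orderOf g
    · exact hn.pow_eq hg ((val_coprime u).coprime_dvd_right (orderOf_dvd_natCard g))
    · rw [pow_eq_self_of_not_dvd P hP hu hg]
  obtain ⟨h1, h2⟩ := key P (h.sylp P).1 h.frobp hχ.1 hn
  obtain ⟨h3, h4⟩ := key Q (h.sylq Q).1 h.frobq hχ.2.1 hn'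
  obtain ⟨c, hc⟩ := hg (gloStab χ) h1 h2 h3 h4 (fun r hr u hu ho => tr_cond (hL r hr).1 (hL r hr).2 χ hu ho)
    (ZMod.unitOfCoprime k hk)
  refine ⟨c, fun g => ?_⟩
  have h5 := mem_gloStab.1 hc g
  rw [← h5]
  exact congrArg _ (pow_eq_of_modEq (orderOf_dvd_natCard g)
    ((val_pow_modEq _ _).trans ((val_unitOfCoprime hk).pow _)).symm)

/-- **Front end B with automorphisms.** -/
theorem Pair.outA_of_gen0 {p q : ℕ} {M M' : Ideal AlgInt} (h : Pair G p q M M')
    (hg : ∀ g : G, Gen0 (orderOf g) p q)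
    (hout : ∀ a : MulAut G, ∃ c : ℕ, a ^ (2 ^ c) ∈ (MulAut.conj (G := G)).range) : OutA p q M M' G :=
  h.outA_of_fix (h.fix_of_gen0 hg) hout

/-- **Front end A with automorphisms.** -/
theorem Pair.outA_of_gen {p q : ℕ} {M M' : Ideal AlgInt} (h : Pair G p q M M') {L : List ℕ}
    (hL : ∀ r ∈ L, r.Prime ∧ TR G r) (hg : Gen (Nat.card G) p q L)
    (hout : ∀ a : MulAut G, ∃ c : ℕ, a ^ (2 ^ c) ∈ (MulAut.conj (G := G)).range) : OutA p q M M' G :=
  h.outA_of_fix (h.fix_of_gen hL hg) hout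

/-- the degree of a non-exceptional character is prime to `p` -/
theorem NE.not_dvd {p : ℕ} [hp : Fact p.Prime] (P : Sylow p G) (hP : Nat.card P = p) {χ : IrrCharacter G}
    (hn : NE p (χ : G → ℂ)) : ¬ p ∣ charDegree (χ : G → ℂ) := by
  classical
  have := Fintype.ofFinite P
  obtain ⟨ε, hε, h⟩ := hn
  obtain ⟨m, hm⟩ := SmallSimple.TheoremBCor.degree_nonexc hP (isIrr_isCharacter χ.2) (ε := ε)
    (fun x hx hx1 => h x (BlockShared.dvd_orderOf hP x hx hx1))
  obtain ⟨n, hn, hn'⟩ := isIrr_apply_one χ.2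
  have h14 : charDegree (χ : G → ℂ) = n := by
    unfold charDegree; rw [hn']; simp
  rw [h14]
  intro hd
  have h1 : (n : ℤ) = p * (m - ε) + ε := by
    have h2 : ((n : ℤ) : ℂ) = ((p * (m - ε) + ε : ℤ) : ℂ) := by
      push_cast
      rw [← hn', hm]
      ring
    exact_mod_cast h2
  have h3 : (p : ℤ) ∣ ε := by
    have h4 : (p : ℤ) ∣ n := by exact_mod_cast hd
    rw [h1] at h4
    exact (Int.dvd_add_right (dvd_mul_right _ _)).1 h4
  have h5 : (p : ℤ) ∣ 1 := by
    rcases hε with h | h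
    · rwa [h] at h3
    · rw [h] at h3; exact (dvd_neg.1 h3)
  have h6 := Int.le_of_dvd one_pos h5
  have h7 := hp.out.one_lt
  omega

end Cfsg.Agent.H602.B0R
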